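import Groth.Agent.Curves.K326.DegPts
import Groth.Agent.Models.H68.Main
import Groth.Agent.CurvesC.CanonGG
import Groth.Agent.S1605
import Groth.Agent.S1561
import Groth.Agent.S1566
import Groth.Agent.CurvesB.VeryAmple
import Groth.Agent.CurvesB.SepPoints
import Groth.Agent.VarietyA.SmoothLocusSch

/-!
# An invertible module of bounded degree, very ample on a reduced connected curve

On a proper reduced connected curve over an algebraically closed field choose a smooth closed point on every
irreducible component and let `L` be the `(2g+1)`-st power of the corresponding effective Cartier divisor.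
-/

set_option autoImplicit false
set_option maxHeartbeats 400000
universe u
open CategoryTheory CategoryTheory.Limits AlgebraicGeometry TopologicalSpace Opposite IsLocalRing

namespace Groth.Agent.Curves.K46.PtsBundle

open Groth.Agent.Divis.CartierBasic Groth.Agent.Divis.CartierStalk Groth.Agent.CurvesC.TailGeom
open Groth.Agent.CurvesB Groth.Agent.CurvesC _root_.K326.StalkVan _root_.K326.PtsDiv _root_.K326.DegPts Groth.Agent
open Groth.Agent.CurvesC.TailNum Groth.Agent.CurvesC.DegIso Groth.Agent.CurvesC.CurveNum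

section points

variable (k : Type u) [Field k] [IsAlgClosed k] (X : Scheme.{u}) [X.Over (Spec (CommRingCat.of k))]
  [IsProper (X ↘ (Spec (CommRingCat.of k)))] [IsReduced X]

theorem exists_smooth_mem (C : Set X) (hC : C ∈ irreducibleComponents (X : Type u)) :
    ∃ x ∈ C, IsClosed ({x} : Set X) ∧ ∃ U : X.Opens, x ∈ U ∧ Smooth (U.ι ≫ (X ↘ (Spec (CommRingCat.of k)))) := by
  have hN := CurveCoh.noetherianSpace k X
  have : JacobsonSpace X := LocallyOfFiniteType.jacobsonSpace (X ↘ Spec (CommRingCat.of k))
  have h := S1561.result k X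
  have h1 := not_subset_closure_compl hC
  rw [Set.not_subset] at h1
  obtain ⟨y, hyC, hy⟩ := h1
  have hO : IsOpen (closure Cᶜ)ᶜ := isClosed_closure.isOpen_compl
  have hne : ((closure Cᶜ)ᶜ ∩ ((X ↘ (Spec (CommRingCat.of k))).smoothLocus : Set X)).Nonempty :=
    h.2.inter_open_nonempty _ hO ⟨y, hy⟩
  obtain ⟨x, ⟨hx1, hx2⟩, hxc⟩ := nonempty_inter_closedPoints hne
    (hO.inter (X ↘ (Spec (CommRingCat.of k))).smoothLocus.isOpen).isLocallyClosed
  refine ⟨x, ?_, hxc, (X ↘ (Spec (CommRingCat.of k))).smoothLocus, hx2,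
    VarietyA.SmoothLocusSch.smooth_smoothLocus_ι _⟩
  by_contra hxC
  exact hx1 (subset_closure hxC)

/-- A finite set of smooth closed points meeting every component, with at most as many points as components. -/
theorem exists_pts (hfin : (irreducibleComponents (X : Type u)).Finite) :
    ∃ (n : ℕ) (p : Fin n → X), n ≤ (irreducibleComponents (X : Type u)).ncard ∧ Pts k n p ∧
      ∀ C ∈ irreducibleComponents (X : Type u), ∃ i, p i ∈ C := by
  have h := fun C : irreducibleComponents (X : Type u) => exists_smooth_mem k X C.1 C.2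
  choose f hfC hfc hfs using h
  have : Finite (irreducibleComponents (X : Type u)) := hfin
  have hfin' : (Set.range f).Finite := Set.finite_range f
  have : Finite (Set.range f) := hfin'
  let e : Fin (Nat.card (Set.range f)) ≃ Set.range f := (Finite.equivFin _).symm
  refine ⟨_, fun i => (e i).1, ?_, ⟨?_, ?_, ?_⟩, ?_⟩
  · have h1 : Nat.card (Set.range f) ≤ Nat.card (irreducibleComponents (X : Type u)) :=
      Nat.card_le_card_of_surjective (Set.rangeFactorization f) Set.rangeFactorization_surjective
    exact h1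
  · exact Subtype.val_injective.comp e.injective
  · intro i
    obtain ⟨C, hC⟩ := (e i).2
    rw [← hC]
    exact hfc C
  · intro i
    obtain ⟨C, hC⟩ := (e i).2
    rw [← hC]
    exact hfs C
  · intro C hC
    have h1 : e (e.symm ⟨f ⟨C, hC⟩, Set.mem_range_self _⟩) = ⟨f ⟨C, hC⟩, Set.mem_range_self _⟩ :=
      e.apply_symm_apply _
    refine ⟨e.symm ⟨f ⟨C, hC⟩, Set.mem_range_self _⟩, ?_⟩
    change (e (e.symm ⟨f ⟨C, hC⟩, Set.mem_range_self _⟩)).1 ∈ C
    rw [h1]
    exact hfC ⟨C, hC⟩

end points

section cartier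

variable (k : Type u) [Field k] {X : Scheme.{u}} [X.Over (Spec (CommRingCat.of k))]
  [IsProper (X ↘ (Spec (CommRingCat.of k)))]

theorem isEff (hdim : topologicalKrullDim X ≤ 1)
    (hpure : ∀ Z ∈ irreducibleComponents (X : Type u), topologicalKrullDim Z = 1) {n : ℕ} {p : Fin n → X}
    (hp : Pts k n p) :
    BlowUp.IsEffCartierIdeal (Scheme.IdealSheafData.vanishingIdeal (ptsCl hp.cl)) := by
  have hN := CurveCoh.noetherianSpace k X
  refine isEffCartierIdeal_of_stalkIdeal _ fun x hx => ?_
  have hx' : x ∈ ptsCl hp.cl := by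
    have h1 : x ∈ ((Scheme.IdealSheafData.vanishingIdeal (ptsCl hp.cl)).support : Set X) := hx
    rw [Scheme.IdealSheafData.coe_support_vanishingIdeal] at h1
    exact h1
  obtain ⟨i, rfl⟩ := (mem_ptsCl hp.cl _).mp hx'
  rw [stalkIdeal_pts hp.cl i]
  have hreg := NodeSch2.isRegularLocalRing_of_exists k (p i) (hp.sm i)
  have hdim1 := NodeSch2.krullDimLE_one_stalk hdim (p i)
  refine exists_gen fun hf => ?_
  have hirr : irreducibleComponent (p i) ∈ irreducibleComponents (X : Type u) :=
    irreducibleComponent_mem_irreducibleComponents _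
  have h2 := not_isField (⊤ : Closeds X) _ hirr (hpure _ hirr) (Set.subset_univ _) (p i) (hp.cl i)
    mem_irreducibleComponent
  have h3 : stalkIdeal (Scheme.IdealSheafData.vanishingIdeal (⊤ : Closeds X)) (p i) ≠ ⊤ := by
    intro h
    have h4 := (notMem_support_iff_stalkIdeal_eq_top (Scheme.IdealSheafData.vanishingIdeal (⊤ : Closeds X))
      (p i)).mpr h
    apply h4
    change p i ∈ ((Scheme.IdealSheafData.vanishingIdeal (⊤ : Closeds X)).support : Set X)
    rw [Scheme.IdealSheafData.coe_support_vanishingIdeal]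
    trivial
  have h5 : stalkIdeal (Scheme.IdealSheafData.vanishingIdeal (⊤ : Closeds X)) (p i) = ⊥ :=
    le_bot_iff.mp ((IsLocalRing.le_maximalIdeal h3).trans (IsLocalRing.isField_iff_maximalIdeal_eq.mp hf).le)
  apply h2
  rw [h5]
  exact (RingEquiv.quotientBot (X.presheaf.stalk (p i))).toMulEquiv.isField hf

end cartier

/-- Powers of a module by successive tensor products. -/
noncomputable def twPow {X : Scheme.{u}} (N : X.Modules) : ℕ → X.Modules
  | 0 => Coh.structureModule X
  | m + 1 => CohB1.tensorMod (twPow N m) N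

theorem isInvertible_twPow {X : Scheme.{u}} {N : X.Modules} (hN : PicF.IsInvertible N) (m : ℕ) :
    PicF.IsInvertible (twPow N m) := by
  induction m with
  | zero => exact Fdesc.LocGen.isInvertible_structureModule
  | succ m ih => exact Fdesc.LocGen.isInvertible_tensorMod ih hN

section deg

attribute [local instance] subOver

variable (k : Type u) [Field k]

theorem deg_structure (X : Scheme.{u}) [X.Over (Spec (CommRingCat.of k))] :
    Curv2.deg k X (Coh.structureModule X) 1 = 0 := by
  rw [Curv2.deg]
  push_cast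
  ring

variable [IsAlgClosed k] (X : Scheme.{u}) [X.Over (Spec (CommRingCat.of k))]
  [IsProper (X ↘ (Spec (CommRingCat.of k)))]

theorem deg_twPow (hdim : topologicalKrullDim X = 1) {n : ℕ} {p : Fin n → X} (hp : Pts k n p) (N : X.Modules)
    (hN : ClSub.IsInverseOf N (ClSub.idealMod (Scheme.IdealSheafData.vanishingIdeal (ptsCl hp.cl)))) (m : ℕ) :
    Curv2.deg k X (twPow N m) 1 = m * n := by
  have hNi := (Dix.IdealModCartier.isInvertible_of_isInverseOf hN).1
  have hD := Dix.IdealModCartier.isEffCartierIdeal_of_isInverseOf hN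
  induction m with
  | zero =>
    rw [Nat.cast_zero, zero_mul]
    exact deg_structure k X
  | succ m ih =>
    obtain ⟨hfin, key⟩ := Groth.Agent.S1604.result k X hdim.le _ hD _ hNi hN 1 (twPow N m)
      (Groth.Agent.Ega2.QCohLocal.isFinLocFreeOfRank_one_iff.mpr (isInvertible_twPow hNi m))
    change Curv2.deg k X (CohB1.tensorMod (twPow N m) N) 1 = _
    have hc : ((Scheme.IdealSheafData.vanishingIdeal (ptsCl hp.cl)).support : Set X) = Set.range p := by
      rw [Scheme.IdealSheafData.coe_support_vanishingIdeal]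
      ext x
      change x ∈ ptsCl hp.cl ↔ _
      rw [mem_ptsCl]
      simp [eq_comm]
    rw [key, ih, finrank_quotMod_eq_ncard k X _ (fun x hx => ?_), hc, ← Set.image_univ,
      Set.ncard_image_of_injective _ hp.inj, Set.ncard_univ, Nat.card_fin]
    · push_cast; ring
    · have hx' : x ∈ ((Scheme.IdealSheafData.vanishingIdeal (ptsCl hp.cl)).support : Set X) := hx
      rw [hc] at hx'
      obtain ⟨i, rfl⟩ := hx'
      exact stalkIdeal_pts hp.cl i

theorem deg_restrict_twPow [ConnectedSpace X]
    (hdim : topologicalKrullDim X = 1) {n : ℕ} {p : Fin n → X} (hp : Pts k n p)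
    (J : X.IdealSheafData) [IsReduced J.subscheme]
    (hJ : ∀ Z ∈ irreducibleComponents (J.subscheme : Type u), topologicalKrullDim Z = 1)
    (N : X.Modules)
    (hN : ClSub.IsInverseOf N (ClSub.idealMod (Scheme.IdealSheafData.vanishingIdeal (ptsCl hp.cl)))) (m : ℕ) :
    Curv2.deg k J.subscheme ((Scheme.Modules.pullback J.subschemeι).obj (twPow N m)) 1 =
      m * ((p ⁻¹' (J.support : Set X)).ncard : ℤ) := by
  have hNi := (Dix.IdealModCartier.isInvertible_of_isInverseOf hN).1
  induction m with
  | zero =>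
    change Curv2.deg k J.subscheme ((Scheme.Modules.pullback J.subschemeι).obj (Coh.structureModule X)) 1 = _
    rw [deg_congr k (CurvesA.HHMap.pullbackUnit J.subschemeι), deg_structure]
    simp
  | succ m ih =>
    rw [deg_restrict_twist k X hdim hp J hJ (twPow N m) N (twPow N (m + 1)) (isInvertible_twPow hNi m) hN
      (Iso.refl _), ih]
    push_cast
    ring

end deg

section van

attribute [local instance] subOver topMod

variable (k : Type u) [Field k] (X : Scheme.{u}) [X.Over (Spec (CommRingCat.of k))]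
  [IsProper (X ↘ (Spec (CommRingCat.of k)))]

/-- A closed subscheme of a finite scheme has at most as many independent functions. -/
theorem finrank_quotMod_mono {Z K : X.IdealSheafData} (hZK : Z ≤ K) (hfin : (Z.support : Set X).Finite) :
    Module.finrank k (Coh.HH X (ClSub.quotMod K) 0) ≤ Module.finrank k (Coh.HH X (ClSub.quotMod Z) 0) := by
  have hF := isFinite_of_finite k X Z hfin
  have hA : IsAffine Z.subscheme := isAffine_of_isAffineHom (Z.subschemeι ≫ (X ↘ (Spec (CommRingCat.of k))))
  have hs : Function.Surjective (restrictTop k X hZK) :=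
    (IsClosedImmersion.isAffine_surjective_of_isAffine (Scheme.IdealSheafData.inclusion hZK)).2
  have hfZ := finite_quotMod k X Z 0
  have hfZ' : Module.Finite k (Coh.Γtop Z.subscheme) :=
    Module.Finite.equiv ((quotEquiv k X Z 0).symm.trans (hZeroTop k Z.subscheme))
  rw [← finrank_quotMod_zero, ← finrank_quotMod_zero]
  exact LinearMap.finrank_le_finrank_of_surjective hs

theorem genus_sub_le (hdim : topologicalKrullDim X ≤ 1) (J : X.IdealSheafData) :
    Curv2.genus k J.subscheme ≤ Curv2.genus k X := by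
  have hcl : IsClosedImmersion (J.subschemeι ∣_ (⊤ : X.Opens)) := inferInstance
  exact Groth.Agent.S1566.result k X J.subscheme hdim J.subschemeι rfl ⊤ (by simp) hcl

variable [IsAlgClosed k] [IsReduced X] [ConnectedSpace X]

theorem subsingleton_H1 (hdim : topologicalKrullDim X = 1) {n : ℕ} {p : Fin n → X} (hp : Pts k n p)
    (hC : ∀ C ∈ irreducibleComponents (X : Type u), ∃ i, p i ∈ C) (N : X.Modules)
    (hN : ClSub.IsInverseOf N (ClSub.idealMod (Scheme.IdealSheafData.vanishingIdeal (ptsCl hp.cl)))) (m : ℕ)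
    (hm : 2 * Curv2.genus k X + 1 ≤ m) (Z : X.IdealSheafData) (hfin : (Z.support : Set X).Finite)
    (hZ : topologicalKrullDim (Z.support : Set X) ≤ 0)
    (hle : Module.finrank k (Coh.HH X (ClSub.quotMod Z) 0) ≤ 2) :
    Subsingleton (Coh.HH X (CohB1.tensorMod (ClSub.idealMod Z) (twPow N m)) 1) := by
  by_contra hcon
  rw [not_subsingleton_iff_nontrivial] at hcon
  have hNi := (Dix.IdealModCartier.isInvertible_of_isInverseOf hN).1
  obtain ⟨J, hJr, hJc, hJ1, hdeg⟩ := Groth.Agent.S1605.result k X hdim _ (isInvertible_twPow hNi m) Z hZ hcon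
  have hP : IsProper (J.subscheme ↘ Spec (CommRingCat.of k)) :=
    inferInstanceAs (IsProper (J.subschemeι ≫ (X ↘ (Spec (CommRingCat.of k)))))
  have h1 : Curv2.euler k J.subscheme (Coh.structureModule J.subscheme) = 1 - (Curv2.genus k J.subscheme : ℤ) := by
    rw [CurveCoh.euler_eq k J.subscheme hJ1, finrank_zero k J.subscheme]
    rfl
  have hNJ := CurveCoh.noetherianSpace k J.subscheme
  have hpure := TailMain.pure_of_connected J.subscheme hJ1
  have h2 : Curv2.deg k J.subscheme ((Scheme.Modules.pullback J.subschemeι).obj (twPow N m)) 1 ≤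
      -2 * Curv2.euler k J.subscheme (Coh.structureModule J.subscheme) +
        (Module.finrank k (Coh.HH X (ClSub.quotMod (Z ⊔ J)) 0) : ℤ) := hdeg
  rw [deg_restrict_twPow k X hdim hp J hpure N hN m, h1] at h2
  have h3 : ((Module.finrank k (Coh.HH X (ClSub.quotMod (Z ⊔ J)) 0) : ℕ) : ℤ) ≤ 2 := by
    exact_mod_cast (finrank_quotMod_mono k X (le_sup_left : Z ≤ Z ⊔ J) hfin).trans hle
  have h4 : (Curv2.genus k J.subscheme : ℤ) ≤ Curv2.genus k X := by
    exact_mod_cast genus_sub_le k X hdim.le J
  have h5 : 1 ≤ (p ⁻¹' (J.support : Set X)).ncard := by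
    rw [Nat.one_le_iff_ne_zero, Ne, Set.ncard_eq_zero (Set.toFinite _)]
    intro hem
    obtain ⟨I, hI, hIJ⟩ := TailUnion.exists_sUnion_eq hdim.le J hpure
    have hne : (J.support : Set X).Nonempty := by
      rw [← Scheme.IdealSheafData.range_subschemeι]
      exact Set.range_nonempty _
    rw [hIJ] at hne
    obtain ⟨x, C, hCI, hx⟩ := hne
    obtain ⟨i, hi⟩ := hC C (hI hCI)
    have h6 : i ∈ p ⁻¹' (J.support : Set X) := by
      change p i ∈ (J.support : Set X)
      rw [hIJ]
      exact ⟨C, hCI, hi⟩
    rw [hem] at h6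
    exact h6
  have h6 : (1 : ℤ) ≤ ((p ⁻¹' (J.support : Set X)).ncard : ℤ) := by exact_mod_cast h5
  have h7 : 2 * (Curv2.genus k X : ℤ) + 1 ≤ m := by exact_mod_cast hm
  have h8 : (m : ℤ) ≤ m * ((p ⁻¹' (J.support : Set X)).ncard : ℤ) :=
    le_mul_of_one_le_right (Nat.cast_nonneg m) h6
  linarith

end van

end Groth.Agent.Curves.K46.PtsBundle
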